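import Cfsg.Agent.H366.OZ.SpRow
import Cfsg.Agent.H279.OZ.Kaw
import Cfsg.Agent.Nodes.WittInst
import Cfsg.Agent.H477.HC.Groups
import Cfsg.Agent.S0245
import Cfsg.Agent.S0246
import Cfsg.Agent.S0292

/-!
# S4842: fronts of the rows `PSp_2n(q)`, `Ω_{2n+1}(q)`, `n ≥ 5` (helper366)

* `row_psp`, `row_oodd` : the rows from `SpCong`;
* `exists_pi` : the surjection `(CForm.spF F n).iso →* S` for `S ≃* PSp n F`, its kernel is central of order `(2, q - 1)`;
* `fact_psp`, `fact_oodd`, `not_dvd_psp`, `not_dvd_oodd`, `kaw_psp`, `kaw_oodd`.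
-/

set_option autoImplicit false

open Cfsg Cfsg.Agent.Characters Cfsg.Agent.H730.OZ Cfsg.Agent.H477.OZ Cfsg.Agent.H53.HC Cfsg.Agent.H477.HC

namespace Cfsg.Agent.H366.OZ

universe u

/-! ### numbers -/

theorem fact_of_card {p a n q N d : ℕ} (hp : p.Prime) (ha : 1 ≤ a) (hq : q = p ^ a) (hd : ¬ p ∣ d) (hN : N ≠ 0)
    (h : d * N = q ^ (n ^ 2) * ∏ i ∈ Finset.range n, (q ^ (2 * (i + 1)) - 1)) : N.factorization p = a * n ^ 2 := by
  have hd0 : d ≠ 0 := by rintro rfl; exact hd (dvd_zero p)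
  have hq2 : 2 ≤ q := by
    rw [hq]
    calc 2 ≤ p := hp.two_le
      _ = p ^ 1 := (pow_one p).symm
      _ ≤ _ := Nat.pow_le_pow_right hp.pos ha
  have hpq : p ∣ q := by rw [hq]; exact dvd_pow_self p (by omega)
  have hP : ¬ p ∣ ∏ i ∈ Finset.range n, (q ^ (2 * (i + 1)) - 1) := by
    intro h1
    obtain ⟨i, -, hi⟩ := (Prime.dvd_finset_prod_iff hp.prime _).1 h1
    have h2 : p ∣ q ^ (2 * (i + 1)) := dvd_pow hpq (by omega)
    have h3 : 1 ≤ q ^ (2 * (i + 1)) := Nat.one_le_pow _ _ (by omega)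
    have h4 := Nat.dvd_sub h2 hi
    rw [Nat.sub_sub_self h3] at h4
    exact hp.one_lt.ne' (Nat.dvd_one.1 h4)
  have hP0 : ∏ i ∈ Finset.range n, (q ^ (2 * (i + 1)) - 1) ≠ 0 := by
    intro h0
    rw [h0] at hP
    exact hP (dvd_zero p)
  have h1 : (d * N).factorization p = (q ^ (n ^ 2) * ∏ i ∈ Finset.range n, (q ^ (2 * (i + 1)) - 1)).factorization p := by
    rw [h]
  rw [Nat.factorization_mul hd0 hN, Nat.factorization_mul (by positivity) hP0, Finsupp.add_apply, Finsupp.add_apply,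
    Nat.factorization_eq_zero_of_not_dvd hd, Nat.factorization_eq_zero_of_not_dvd hP, zero_add, add_zero, hq,
    ← pow_mul, hp.factorization_pow, Finsupp.single_eq_same] at h1
  exact h1

/-- the field -/
theorem exists_pow (F : Type*) [Field F] [Fintype F] (p : ℕ) [CharP F p] :
    p.Prime ∧ ∃ a, 1 ≤ a ∧ Fintype.card F = p ^ a := by
  obtain ⟨a, hp, ha⟩ := FiniteField.card F p
  exact ⟨hp, a, a.pos, ha⟩

/-! ### `PSp` -/

section Sp

variable {S : Type u} [Group S] [Finite S] {F : Type} [Field F] [Fintype F] {n : ℕ} (e : S ≃* PSp n F)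

include e

omit [Finite S] in
theorem card_psp (hn : 1 ≤ n) : Nat.gcd 2 (Fintype.card F - 1) * Nat.card S =
    Fintype.card F ^ (n ^ 2) * ∏ i ∈ Finset.range n, (Fintype.card F ^ (2 * (i + 1)) - 1) := by
  rw [Nat.card_congr e.toEquiv]
  have h1 := S0245.result (F := F) rfl n
  have h2 := S0246.result (F := F) rfl n hn
  have h3 := Subgroup.card_mul_index (Subgroup.center ↥(Matrix.symplecticGroup (Fin n) F))
  rw [h1, h2] at h3
  exact h3

theorem fact_psp (hn : 1 ≤ n) {p a : ℕ} (hp : p.Prime) (ha : 1 ≤ a) (hq : Fintype.card F = p ^ a) :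
    (Nat.card S).factorization p = a * n ^ 2 := by
  refine fact_of_card hp ha hq ?_ Nat.card_pos.ne' (card_psp e hn)
  intro h
  have h1 : p ∣ 2 := h.trans (Nat.gcd_dvd_left _ _)
  have h2 : p ∣ Fintype.card F - 1 := h.trans (Nat.gcd_dvd_right _ _)
  have h3 : p ∣ Fintype.card F := by rw [hq]; exact dvd_pow_self p (by omega)
  have h4 := Nat.dvd_sub h3 h2
  rw [Nat.sub_sub_self Fintype.card_pos] at h4
  exact hp.one_lt.ne' (Nat.dvd_one.1 h4)

omit [Finite S] in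
theorem not_dvd_psp (hn : 2 ≤ n) {p a : ℕ} (hp : p.Prime) (ha : 1 ≤ a) (hq : Fintype.card F = p ^ a) :
    ¬ p ^ (2 * (a * n ^ 2)) - 1 ∣ Nat.card S := by
  refine Cfsg.Agent.H167.OZ.not_dvd_sp hp ha hn ?_
  have h1 := card_psp e (by omega : 1 ≤ n)
  rw [hq, ← pow_mul] at h1
  exact ⟨_, by rw [mul_comm (Nat.card S)]; exact h1.symm⟩

theorem kaw_psp (hn : 1 ≤ n) {p : ℕ} [CharP F p] : Kaw p S := by
  have hp : Fact p.Prime := ⟨(exists_pow F p).1⟩
  exact Cfsg.Agent.H279.OZ.kaw_of_hasRGD hp.out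
    ((Cfsg.Agent.Nodes.WittInst.hasRGD_PSp (F := F) hn).of_equiv e.symm)

/-- **Row `PSp_2n(q)`, `n ≥ 5`, from `SpCong`.** -/
theorem row_psp (hs : IsSimpleGroup S) (hn : 5 ≤ n) (hex : ¬ ((n = 5 ∨ n = 6) ∧ Fintype.card F = 2))
    {p : ℕ} [CharP F p] (h : SpCong p n (Fintype.card F) S) : Row S := by
  obtain ⟨hp, a, ha, hq⟩ := exists_pow F p
  exact row_of_spCong hs hp ha hq hn hex (fact_psp e (by omega) hp ha hq) (not_dvd_psp e (by omega) hp ha hq)
    (kaw_psp e (by omega)) h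

omit [Finite S] in
/-- **The covering** `Sp_2n(q) → S`. -/
theorem exists_pi (hn : 1 ≤ n) : ∃ π : (CForm.spF F n).iso →* S, Function.Surjective π ∧
    π.ker ≤ Subgroup.center (CForm.spF F n).iso ∧ Nat.card π.ker = Nat.gcd 2 (Fintype.card F - 1) := by
  let f : (CForm.spF F n).iso ≃* Matrix.symplecticGroup (Fin n) F := (Cfsg.Agent.H477.HC.isoSp n F).symm
  let π : (CForm.spF F n).iso →* S := (e.symm.toMonoidHom.comp
    (QuotientGroup.mk' (Subgroup.center (Matrix.symplecticGroup (Fin n) F)))).comp f.toMonoidHom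
  have hker : ∀ x, x ∈ π.ker ↔ f x ∈ Subgroup.center (Matrix.symplecticGroup (Fin n) F) := by
    intro x
    rw [MonoidHom.mem_ker]
    show e.symm (QuotientGroup.mk' _ (f x)) = 1 ↔ _
    rw [MulEquiv.map_eq_one_iff, QuotientGroup.mk'_apply, QuotientGroup.eq_one_iff]
  refine ⟨π, ?_, ?_, ?_⟩
  · exact (e.symm.surjective.comp (QuotientGroup.mk'_surjective _)).comp f.surjective
  · intro x hx
    rw [hker] at hx
    rw [Subgroup.mem_center_iff] at hx ⊢
    intro y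
    apply f.injective
    rw [map_mul, map_mul]
    exact hx (f y)
  · rw [← S0246.result (F := F) rfl n hn]
    refine Nat.card_congr ?_
    refine (f.toEquiv.subtypeEquiv fun x => ?_)
    exact hker x

end Sp

/-! ### `Ω_{2n+1}` -/

section Om

variable {S : Type u} [Group S] [Finite S] {F : Type} [Field F] [Fintype F] {n : ℕ}
  (e : S ≃* POmega F (quadFormOdd n F))

include e

omit [Finite S] in
theorem card_oodd (ho : Odd (Fintype.card F)) (hn : 3 ≤ n) : 2 * Nat.card S =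
    Fintype.card F ^ (n ^ 2) * ∏ i ∈ Finset.range n, (Fintype.card F ^ (2 * (i + 1)) - 1) := by
  rw [Nat.card_congr e.toEquiv]
  exact S0292.result (F := F) rfl ho n hn

theorem fact_oodd (ho : Odd (Fintype.card F)) (hn : 3 ≤ n) {p a : ℕ} (hp : p.Prime) (ha : 1 ≤ a)
    (hq : Fintype.card F = p ^ a) : (Nat.card S).factorization p = a * n ^ 2 := by
  refine fact_of_card hp ha hq ?_ Nat.card_pos.ne' (card_oodd e ho hn)
  intro h
  rw [(Nat.prime_dvd_prime_iff_eq hp Nat.prime_two).1 h] at hq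
  rw [hq, Nat.odd_pow_iff (by omega)] at ho
  exact absurd ho (by decide)

omit [Finite S] in
theorem not_dvd_oodd (ho : Odd (Fintype.card F)) (hn : 3 ≤ n) {p a : ℕ} (hp : p.Prime) (ha : 1 ≤ a)
    (hq : Fintype.card F = p ^ a) : ¬ p ^ (2 * (a * n ^ 2)) - 1 ∣ Nat.card S := by
  refine Cfsg.Agent.H167.OZ.not_dvd_sp hp ha (by omega) ?_
  have h1 := card_oodd e ho hn
  rw [hq, ← pow_mul] at h1
  exact ⟨_, by rw [mul_comm (Nat.card S)]; exact h1.symm⟩

theorem kaw_oodd (ho : Odd (Fintype.card F)) (hn : 2 ≤ n) {p : ℕ} [CharP F p] : Kaw p S := by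
  have hp : Fact p.Prime := ⟨(exists_pow F p).1⟩
  have h2 : (2 : F) ≠ 0 := by
    intro h0
    have h1 : p ∣ 2 := (CharP.cast_eq_zero_iff F p 2).1 (by exact_mod_cast h0)
    obtain ⟨-, a, ha, hq⟩ := exists_pow F p
    rw [(Nat.prime_dvd_prime_iff_eq hp.out Nat.prime_two).1 h1] at hq
    rw [hq, Nat.odd_pow_iff (by omega)] at ho
    exact absurd ho (by decide)
  exact Cfsg.Agent.H279.OZ.kaw_of_hasRGD hp.out
    ((Cfsg.Agent.Nodes.WittInst.hasRGD_PO_odd (F := F) h2 hn).of_equiv e.symm)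

/-- **Row `Ω_{2n+1}(q)`, `n ≥ 5`, from `SpCong`.** -/
theorem row_oodd (hs : IsSimpleGroup S) (ho : Odd (Fintype.card F)) (hn : 5 ≤ n)
    {p : ℕ} [CharP F p] (h : SpCong p n (Fintype.card F) S) : Row S := by
  obtain ⟨hp, a, ha, hq⟩ := exists_pow F p
  refine row_of_spCong hs hp ha hq hn ?_ (fact_oodd e ho (by omega) hp ha hq) (not_dvd_oodd e ho (by omega) hp ha hq)
    (kaw_oodd e ho (by omega)) h
  rintro ⟨-, h2⟩
  rw [h2] at ho
  exact absurd ho (by decide)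

end Om

end Cfsg.Agent.H366.OZ
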