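import Cfsg.Agent.H477.OZ.CongS
import Cfsg.Agent.H167.OZ.SpArith

/-!
# S4842: the rows `PSp_2n(q)`, `Ω_{2n+1}(q)`, `n ≥ 5`, from their congruences (helper366)
-/

set_option autoImplicit false

open Cfsg Cfsg.Agent.Characters Cfsg.Agent.H730.OZ Cfsg.Agent.H477.OZ

namespace Cfsg.Agent.H366.OZ

universe u

/-- `p ^ (2 a n^2) = p ^ (2 a k^2)` modulo `r` -/
theorem pow_swap {p a n k r : ℕ} (hk : k < n) (hD : orderOf (p : ZMod r) = a * (2 * (n - k))) :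
    (r : ℤ) ∣ (p : ℤ) ^ (2 * (a * n ^ 2)) - (p : ℤ) ^ (2 * a * k ^ 2) := by
  rw [← ZMod.intCast_zmod_eq_zero_iff_dvd]
  push_cast
  rw [sub_eq_zero]
  have e : 2 * (a * n ^ 2) = 2 * a * k ^ 2 + (a * (2 * (n - k))) * (n + k) := by
    obtain ⟨j, rfl⟩ := Nat.exists_eq_add_of_lt hk
    have : k + j + 1 - k = j + 1 := by omega
    rw [this]
    ring
  rw [e, pow_add, pow_mul (p : ZMod r) (a * (2 * (n - k))), ← hD, pow_orderOf_eq_one, one_pow, mul_one]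

/-- **The row from `SpCong`.** -/
theorem row_of_spCong {S : Type u} [Group S] [Finite S] (hs : IsSimpleGroup S) {p a n q : ℕ} (hp : p.Prime)
    (ha : 1 ≤ a) (hq : q = p ^ a) (hn : 5 ≤ n) (hex : ¬ ((n = 5 ∨ n = 6) ∧ q = 2))
    (hv : (Nat.card S).factorization p = a * n ^ 2) (h0 : ¬ p ^ (2 * (a * n ^ 2)) - 1 ∣ Nat.card S) (hK : Kaw p S)
    (h : SpCong p n q S) : Row S := by
  refine fun χ hχ hz => absurd hz (none_of_congS hs hp hv (by positivity) hK h0 ?_ hχ)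
  intro m e he hm0 hm hC
  refine Cfsg.Agent.H167.OZ.sp_false hp ha hn (fun h1 => hex ⟨by omega, hq.trans h1.1⟩) hm0 hm he ?_
  intro k r hk5 hkn hx hr hD hD'
  have h3 : 3 ≤ n - k := by omega
  have hSC := h k r (by omega) h3 hr (by rw [hq]; exact hD')
  obtain ⟨c, hc, hd⟩ := hC r _ hSC
  rw [hv] at hc
  rcases hc with ⟨rfl, rfl⟩ | ⟨rfl, h1, h2⟩ | ⟨rfl, h1, h2⟩ | ⟨rfl, h1, h2⟩ | ⟨hk0, h1, h2, h4⟩
  · exact ⟨1, Or.inl (by simp), hd⟩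
  · have h5 : p ^ a = 2 := by rw [← hq, h1]
    obtain ⟨rfl, rfl⟩ := Cfsg.Agent.H167.OZ.prime_of_pow ha Nat.prime_two h5
    rcases h2 with rfl | rfl
    · exact ⟨4, Or.inl (by norm_num), hd⟩
    · exact ⟨-2, Or.inr (Or.inr (Or.inl ⟨by norm_num, rfl, rfl⟩)), hd⟩
  · have h5 : p ^ a = 3 := by rw [← hq, h1]
    obtain ⟨rfl, rfl⟩ := Cfsg.Agent.H167.OZ.prime_of_pow ha Nat.prime_three h5
    rcases h2 with rfl | rfl
    · exact ⟨9, Or.inl (by norm_num), hd⟩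
    · exact ⟨-3, Or.inr (Or.inl ⟨by norm_num, rfl, rfl⟩), hd⟩
  · have h5 : p ^ a = 2 := by rw [← hq, h1]
    obtain ⟨rfl, rfl⟩ := Cfsg.Agent.H167.OZ.prime_of_pow ha Nat.prime_two h5
    rcases h2 with rfl | rfl
    · exact ⟨256, Or.inl (by norm_num), hd⟩
    · exact ⟨16, Or.inr (Or.inr (Or.inr ⟨by norm_num, rfl, rfl⟩)), hd⟩
  · refine ⟨(p : ℤ) ^ (2 * a * k ^ 2), Or.inl rfl, ?_⟩
    rw [h4] at hd
    have h5 := dvd_add hd (pow_swap (p := p) (a := a) (n := n) (k := k) (by omega) hD)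
    rw [sub_add_sub_cancel] at h5
    exact h5

end Cfsg.Agent.H366.OZ
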